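import Cfsg.Agent.CoFive.Ranks

/-!
# A Sylow 5-subgroup of `Co1` with a given centre (helper415, task 2142)

`sylow_five` : every element `s` of order five of `Co1` of fixed rank 4 generates the centre of a subgroup of order
`5 ^ 4` whose quotient by `⟨s⟩` is not abelian.  (The group `CoFive.Abs.PP` of helper89.)
-/

set_option autoImplicit false

namespace Cfsg.Agent.H415.M5

open Cfsg Cfsg.Agent.CoFive.Abs

/-- the properties of the subgroup -/
def SylF {G : Type*} [Group G] (S : Subgroup G) (s : G) : Prop :=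
  Nat.card S = 5 ^ 4 ∧ s ∈ S ∧ (∀ y ∈ S, y * s = s * y) ∧
    (∀ y ∈ S, (∀ t ∈ S, y * t = t * y) → y ∈ Subgroup.zpowers s) ∧
    ∃ s₁ ∈ S, ∃ s₂ ∈ S, s₁ * s₂ * s₁⁻¹ * s₂⁻¹ ∉ Subgroup.zpowers s

theorem SylF.map {G H : Type*} [Group G] [Group H] (f : G →* H) {S : Subgroup G} {s : G}
    (hf : ∀ y ∈ S, f y = 1 → y = 1) (h : SylF S s) : SylF (S.map f) (f s) := by
  obtain ⟨h1, h2, h3, h4, s₁, hs₁, s₂, hs₂, h5⟩ := h
  have inj : ∀ y ∈ S, ∀ t ∈ S, f y = f t → y = t := fun y hy t ht h => by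
    have := hf (y * t⁻¹) (S.mul_mem hy (S.inv_mem ht)) (by rw [map_mul, map_inv, h, mul_inv_cancel])
    exact mul_inv_eq_one.1 this
  refine ⟨?_, ⟨s, h2, rfl⟩, ?_, ?_, f s₁, ⟨s₁, hs₁, rfl⟩, f s₂, ⟨s₂, hs₂, rfl⟩, ?_⟩
  · rw [← h1]
    symm
    apply Nat.card_congr
    refine Equiv.ofBijective (fun y : S => (⟨f y, ⟨y, y.2, rfl⟩⟩ : S.map f)) ⟨?_, ?_⟩
    · intro y t hyt
      exact Subtype.ext (inj _ y.2 _ t.2 (congrArg Subtype.val hyt))
    · rintro ⟨_, y, hy, rfl⟩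
      exact ⟨⟨y, hy⟩, rfl⟩
  · rintro _ ⟨y, hy, rfl⟩
    rw [← map_mul, h3 y hy, map_mul]
  · rintro _ ⟨y, hy, rfl⟩ hc
    have := h4 y hy (fun t ht => inj _ (S.mul_mem hy ht) _ (S.mul_mem ht hy) (by
      rw [map_mul, map_mul]; exact hc _ ⟨t, ht, rfl⟩))
    obtain ⟨k, rfl⟩ := Subgroup.mem_zpowers_iff.1 this
    rw [map_zpow]
    exact Subgroup.zpow_mem_zpowers _ _
  · intro hc
    obtain ⟨k, hk⟩ := Subgroup.mem_zpowers_iff.1 hc
    apply h5
    rw [Subgroup.mem_zpowers_iff]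
    refine ⟨k, inj _ (S.zpow_mem h2 _) _
      (S.mul_mem (S.mul_mem (S.mul_mem hs₁ hs₂) (S.inv_mem hs₁)) (S.inv_mem hs₂)) ?_⟩
    rw [map_zpow, hk]
    simp only [map_mul, map_inv]

section Abs

variable {G : Type*} [Group G] [Finite G] {a b c u : G}

theorem ph_mem (D : Dat a b c u) (v : V) : Ph a b c v ∈ PP D :=
  ⟨v, 0, by rw [ZMod.val_zero, pow_zero, mul_one]⟩

theorem u_mem (D : Dat a b c u) : u ∈ PP D :=
  ⟨0, 1, by rw [Ph_zero, one_mul, show (1 : ZMod 5).val = 1 from rfl, pow_one]⟩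

theorem a_eq (a b c : G) : a = Ph a b c (1, 0, 0) := by
  have h1 : (1 : ZMod 5).val = 1 := rfl
  simp [Ph, h1]

theorem ac_iter_a : ∀ k : ZMod 5, ac^[k.val] ((1, 0, 0) : V) = (1, 0, 0) := by decide +kernel

theorem ac_fix : ∀ v : V, ac v = v → v.2 = 0 := by decide +kernel

theorem not_sm : ∀ k : ZMod 5, sm k.val ((1, 0, 0) : V) ≠ (0, 1, 0) := by decide +kernel

theorem sylF_PP (D : Dat a b c u) : SylF (PP D) a := by
  refine ⟨card_PP D, ?_, ?_, ?_, u, u_mem D, Ph a b c (0, 0, 1), ph_mem D _, ?_⟩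
  · have := ph_mem D (1, 0, 0)
    rwa [← a_eq] at this
  · rintro _ ⟨v, k, rfl⟩
    have h1 : u ^ k.val * a = a * u ^ k.val := by
      have := D.act_pow k.val (1, 0, 0)
      rw [ac_iter_a, ← a_eq] at this
      exact mul_inv_eq_iff_eq_mul.1 this
    have h2 := D.H.ph_comm v (1, 0, 0)
    rw [← a_eq] at h2
    rw [mul_assoc, h1, ← mul_assoc, h2, mul_assoc]
  · rintro _ ⟨v, k, rfl⟩ hc
    have hk : k = 0 := by
      apply ac_inj
      apply D.ph_inj
      have h4 : ∀ s t, Ph a b c s * Ph a b c t * (Ph a b c s)⁻¹ = Ph a b c t := fun s t => by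
        rw [D.H.ph_comm, mul_inv_cancel_right]
      calc Ph a b c (ac^[k.val] (0, 0, 1))
          = Ph a b c v * (Ph a b c (ac^[k.val] (0, 0, 1))) * (Ph a b c v)⁻¹ := by rw [h4]
        _ = (Ph a b c v * u ^ k.val) * Ph a b c (0, 0, 1) * (Ph a b c v * u ^ k.val)⁻¹ := by
          rw [← D.act_pow]; group
        _ = Ph a b c (0, 0, 1) := by rw [hc _ (ph_mem D _), mul_inv_cancel_right]
    subst hk
    rw [ZMod.val_zero, pow_zero, mul_one] at hc ⊢
    have hv : ac v = v := by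
      apply D.ph_inj
      rw [← D.act, ← hc u (u_mem D), mul_inv_cancel_right]
    have hv2 := ac_fix v hv
    obtain ⟨v1, v2⟩ := v
    simp only at hv2
    subst hv2
    have : Ph a b c (v1, 0) = a ^ v1.val := by
      simp [Ph]
    rw [this]
    exact Subgroup.npow_mem_zpowers _ _
  · intro hc
    rw [D.act, ← D.H.neg, ← D.H.add] at hc
    obtain ⟨n, hn⟩ := mem_powers_iff_mem_zpowers.2 hc
    have h1 : a ^ n = Ph a b c (sm n (1, 0, 0)) := by
      conv_lhs => rw [a_eq a b c]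
      exact D.H.pow _ n
    have h2 := D.ph_inj (h1.symm.trans hn)
    have h3 := congrArg (fun v : V => v.2.1) h2
    have h4 : (0 : ZMod 5) = 1 := by
      revert h3
      simp [sm, ac, lin]
    exact absurd h4 (by decide)

end Abs

open Cfsg.Agent.CoFive.Class Cfsg.Agent.CoFive.Ranks Cfsg.Agent.CoFive.Rel
open Cfsg.Agent.LThreeMB (fr)
open Cfsg.Spor (Co1)

/-- the quotient map -/
noncomputable abbrev q1 : Co0 →* Co1 := QuotientGroup.mk' (Subgroup.center Co0)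

/-- **A Sylow 5-subgroup of `Co1`.** -/
theorem sylow_five {s : Spor.Co1} (hs : orderOf s = 5) (hf : Cfsg.Agent.LThreeMB.fr s = 2 ^ 4) :
    ∃ S : Subgroup Spor.Co1, Nat.card S = 5 ^ 4 ∧ s ∈ S ∧ (∀ y ∈ S, y * s = s * y) ∧
      (∀ y ∈ S, (∀ t ∈ S, y * t = t * y) → y ∈ Subgroup.zpowers s) ∧
      ∃ s₁ ∈ S, ∃ s₂ ∈ S, s₁ * s₂ * s₁⁻¹ * s₂⁻¹ ∉ Subgroup.zpowers s := by
  haveI := finite_co0
  have h0 : SylF (PP dat) (e 1) := sylF_PP dat
  have h1 : SylF ((PP dat).map q1) (q1 (e 1)) := by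
    refine h0.map q1 fun y hy h => ?_
    have hc : y ∈ Subgroup.center Co0 := (QuotientGroup.eq_one_iff y).1 h
    have h2 : y ^ 2 = 1 := sq_of_center hc
    have h3 : orderOf y ∣ 5 ^ 4 := by
      have := orderOf_dvd_natCard (⟨y, hy⟩ : ↥(PP dat))
      rwa [card_PP dat, ← Subgroup.orderOf_coe] at this
    have h4 : orderOf y ∣ 2 := orderOf_dvd_of_pow_eq_one h2
    exact orderOf_eq_one_iff.1 (Nat.eq_one_of_dvd_coprimes (by norm_num : Nat.Coprime (5 ^ 4) 2) h3 h4)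
  have ho : orderOf (q1 (e 1)) = 5 := by
    haveI : Fact (Nat.Prime 5) := ⟨Nat.prime_five⟩
    refine orderOf_eq_prime (by rw [← map_pow, hyp.a5, map_one]) fun h => ?_
    have hc : r4 ∈ Subgroup.center Co0 := (QuotientGroup.eq_one_iff (e 1)).1 h
    have h4 := orderOf_dvd_of_pow_eq_one (sq_of_center hc)
    rw [order_r4] at h4
    norm_num at h4
  obtain ⟨x, hx⟩ := isConj_iff.1 (isConj_of_fr ho hs (fr_r4.trans hf.symm))
  have h2 := h1.map (MulAut.conj x).toMonoidHom fun y _ h => by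
    have h3 : x * y * x⁻¹ = 1 := h
    rwa [mul_inv_eq_one, mul_eq_left] at h3
  have h3 : (MulAut.conj x).toMonoidHom (q1 (e 1)) = s := hx
  rw [h3] at h2
  exact ⟨_, h2⟩

end Cfsg.Agent.H415.M5
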